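import Groth.Agent.Lib.Azumaya.BaseChange
import Groth.Agent.Lib.Milnor.Finite
import Mathlib.Algebra.Azumaya.Basic

/-! Azumaya algebras over a Milnor square. -/

universe u

open scoped TensorProduct

namespace GrothLib.Milnor21

open Groth.Agent

theorem bij_of_isAzumaya_baseChange (R S : Type u) [CommRing R] [CommRing S] [Algebra R S] (D : Type u)
    [Ring D] [Algebra R D] [Module.Finite R D] [Module.Projective R D] [IsAzumaya S (S ⊗[R] D)]
    (m : Ideal R) (q : Ideal S) (hq : q ≠ ⊤) (hmq : m ≤ q.comap (algebraMap R S)) :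
    ∃ (L : Type u) (_ : CommRing L) (_ : Algebra R L), Nontrivial L ∧ m ≤ RingHom.ker (algebraMap R L) ∧
      Function.Bijective ((AlgHom.mulLeftRight R D).toLinearMap.baseChange L) := by
  refine ⟨S ⧸ q, inferInstance, inferInstance, Ideal.Quotient.nontrivial_iff.2 hq,
    fun r hr => Ideal.Quotient.eq_zero_iff_mem.2 (hmq hr), ?_⟩
  have hS := (GrothLib.Azu.bij_baseChange_iff R S D).1 IsAzumaya.bij
  let e := (LinearEquiv.ofBijective _ hS).baseChange S (S ⧸ q) _ _
  have : ⇑((AlgHom.mulLeftRight R D).toLinearMap.baseChange (S ⧸ q)) =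
      ⇑(TensorProduct.AlgebraTensorModule.cancelBaseChange R S (S ⧸ q) (S ⧸ q) (Module.End R D)) ∘
        e ∘ (TensorProduct.AlgebraTensorModule.cancelBaseChange R S (S ⧸ q) (S ⧸ q)
          (D ⊗[R] Dᵐᵒᵖ)).symm := by
    funext x
    induction x using TensorProduct.induction_on with
    | zero => simp
    | tmul c y => simp [e]
    | add x y hx hy => simp only [Function.comp_apply, map_add] at *; rw [hx, hy]
  rw [this]
  exact (LinearEquiv.bijective _).comp ((LinearEquiv.bijective _).comp (LinearEquiv.bijective _))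

variable {B' B A' A : Type u} [CommRing B'] [CommRing B] [CommRing A'] [CommRing A]
  [Algebra B' B] [Algebra B' A'] [Algebra B A] [Algebra A' A] [Algebra B' A]
  [IsScalarTower B' B A] [IsScalarTower B' A' A]

theorem exists_prime_side (hsq : EtMil.IsFibreSquare B' B A' A) (m : Ideal B') (hm : m.IsMaximal) :
    (∃ q : Ideal B, q ≠ ⊤ ∧ m ≤ q.comap (algebraMap B' B)) ∨
      ∃ q : Ideal A', q ≠ ⊤ ∧ m ≤ q.comap (algebraMap B' A') := by
  by_cases hJ : RingHom.ker (algebraMap B' B) ≤ m
  · refine Or.inl ⟨m.map (algebraMap B' B), fun htop => hm.ne_top (eq_top_iff.2 ?_), Ideal.le_comap_map⟩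
    have h := Ideal.comap_map_of_surjective _ (Milnor.sq_of_isFibreSquare hsq).surjL m
    rw [htop, Ideal.comap_top] at h
    rw [h]
    exact sup_le le_rfl hJ
  · refine Or.inr ⟨m.map (algebraMap B' A'), fun htop => hJ fun j hj => ?_, Ideal.le_comap_map⟩
    obtain ⟨μ, -, hμ, hμ1⟩ := Milnor.exists_mulMap hsq (RingHom.mem_ker.1 hj)
    rw [← hμ1]
    suffices h : ∀ z ∈ m.map (algebraMap B' A'), μ z ∈ m from h 1 (htop ▸ Submodule.mem_top)
    intro z hz
    suffices h : ∀ c : A', μ (c * z) ∈ m by simpa using h 1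
    induction hz using Submodule.span_induction with
    | mem w hw =>
      obtain ⟨b, hb, rfl⟩ := hw
      intro c
      rw [mul_comm, ← Algebra.smul_def, map_smul, smul_eq_mul]
      exact Ideal.mul_mem_right _ _ hb
    | zero => intro c; rw [mul_zero, map_zero]; exact m.zero_mem
    | add x y _ _ hx hy => intro c; rw [mul_add, map_add]; exact m.add_mem (hx c) (hy c)
    | smul a x _ hx => intro c; rw [smul_eq_mul, ← mul_assoc]; exact hx (c * a)

theorem isAzumaya_of_pair (hsq : EtMil.IsFibreSquare B' B A' A) (D : Type u) [Ring D] [Algebra B' D]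
    [IsAzumaya B (B ⊗[B'] D)] [IsAzumaya A' (A' ⊗[B'] D)] : IsAzumaya B' D := by
  obtain ⟨hf, hp⟩ := Milnor.projective_of_pair hsq D
  have hfs : FaithfulSMul B' D := ⟨fun {r s} h => by
    refine Milnor.eq_of_pair hsq ?_ ?_
    · refine FaithfulSMul.eq_of_smul_eq_smul (α := B ⊗[B'] D) fun z => ?_
      induction z using TensorProduct.induction_on with
      | zero => simp
      | add x y hx hy => rw [smul_add, smul_add, hx, hy]
      | tmul b d => rw [algebraMap_smul, algebraMap_smul, ← TensorProduct.tmul_smul,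
          ← TensorProduct.tmul_smul, h]
    · refine FaithfulSMul.eq_of_smul_eq_smul (α := A' ⊗[B'] D) fun z => ?_
      induction z using TensorProduct.induction_on with
      | zero => simp
      | add x y hx hy => rw [smul_add, smul_add, hx, hy]
      | tmul b d => rw [algebraMap_smul, algebraMap_smul, ← TensorProduct.tmul_smul,
          ← TensorProduct.tmul_smul, h]⟩
  have := GrothLib.Azu.finite_tensor_mop B' D
  obtain ⟨hf', hp'⟩ := GrothLib.Azu.finite_projective_end B' D
  refine ⟨GrothLib.Azu.bijective_of_forall_maximal.{u, u, u, u} (AlgHom.mulLeftRight B' D).toLinearMap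
    fun m hm => ?_⟩
  rcases exists_prime_side hsq m hm with ⟨q, hq, hmq⟩ | ⟨q, hq, hmq⟩
  · exact bij_of_isAzumaya_baseChange B' B D m q hq hmq
  · exact bij_of_isAzumaya_baseChange B' A' D m q hq hmq

end GrothLib.Milnor21
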